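import Groth.Agent.RegLoc.Order
import Groth.Agent.UFDLib.Regular
import Mathlib

/-!
Roots of divisors with divisible multiplicities on regular rings.
-/

set_option autoImplicit false
set_option backward.isDefEq.respectTransparency false
set_option backward.isDefEq.respectTransparency.types false
set_option linter.style.haveILetI false

universe u

open IsLocalRing

noncomputable section

namespace Groth.Agent.IndexLift

/-- In a UFD, an element with all exponents divisible by `h` is an `h`-th power up to a unit. -/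
theorem exists_root {A : Type u} [CommRing A] [IsDomain A] [UniqueFactorizationMonoid A] {h : ℕ} (a : A) (ha : a ≠ 0)
    (hexp : ∀ (q : A) (j : ℕ) (c : A), Prime q → a = q ^ j * c → ¬ q ∣ c → h ∣ j) :
    ∃ t u : A, IsUnit u ∧ a = u * t ^ h := by
  revert ha hexp
  induction a using (wellFounded_dvdNotUnit (α := A)).induction with
  | _ a ih =>
    intro ha hexp
    by_cases hau : IsUnit a
    · exact ⟨1, a, hau, by simp⟩
    obtain ⟨q, hq, hd⟩ := WfDvdMonoid.exists_irreducible_factor hau ha
    obtain ⟨j, c, hqc, hjc⟩ := WfDvdMonoid.max_power_factor ha hq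
    have hj0 : j ≠ 0 := fun hj => hqc (by rw [hjc, hj, pow_zero, one_mul] at hd; exact hd)
    have hc0 : c ≠ 0 := fun hc => ha (by rw [hjc, hc, mul_zero])
    have hlt : DvdNotUnit c a := ⟨hc0, q ^ j, fun hu => hq.not_isUnit ((isUnit_pow_iff hj0).1 hu), by rw [hjc, mul_comm]⟩
    have hexp' : ∀ (q' : A) (i : ℕ) (d : A), Prime q' → c = q' ^ i * d → ¬ q' ∣ d → h ∣ i := by
      intro q' i d hq' hcd hq'd
      by_cases hi : i = 0
      · simp [hi]
      refine hexp q' i (q ^ j * d) hq' (by rw [hjc, hcd]; ring) fun hdiv => ?_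
      refine (hq'.dvd_or_dvd hdiv).elim (fun h1 => ?_) hq'd
      have h2 : Associated q' q := hq'.irreducible.associated_of_dvd hq (hq'.dvd_of_dvd_pow h1)
      exact hqc (h2.symm.dvd.trans (hcd ▸ Dvd.dvd.mul_right (dvd_pow_self q' hi) d))
    obtain ⟨t, u, hu, htc⟩ := ih c hlt hc0 hexp'
    obtain ⟨l, rfl⟩ := hexp q j c hq.prime hjc hqc
    exact ⟨q ^ l * t, u, hu, by rw [hjc, htc, mul_pow, ← pow_mul, mul_comm h l]; ring⟩

variable {S : Type u} [CommRing S]

/-- Multiplicities `j` of `π` along the components of `V(π)`. -/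
def IsMult (π : S) (j : ℕ) : Prop :=
  ∃ (P : Ideal S) (_ : P.IsPrime), P ∈ (Ideal.span {π}).minimalPrimes ∧ 0 < j ∧
    Ideal.span {algebraMap S (Localization.AtPrime P) π} = maximalIdeal (Localization.AtPrime P) ^ j

/-- A root exists in every local ring. -/
theorem exists_root_atPrime (n : Ideal S) [n.IsPrime] [IsRegularLocalRing (Localization.AtPrime n)] {π : S}
    (hnz : π ∈ nonZeroDivisors S) {h : ℕ} (hG : ∀ j, IsMult π j → h ∣ j) :
    ∃ t u : Localization.AtPrime n, IsUnit u ∧ algebraMap S (Localization.AtPrime n) π = u * t ^ h := by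
  let A := Localization.AtPrime n
  haveI : IsDomain A := RegLoc.isDomain A
  haveI : UniqueFactorizationMonoid A := UFDLib.ufd_of_isRegularLocalRing A
  have hπ0 : algebraMap S A π ≠ 0 := fun h0 => by
    rw [IsLocalization.map_eq_zero_iff n.primeCompl] at h0
    obtain ⟨c, hc⟩ := h0
    exact c.2 (show (c : S) ∈ n by rw [mem_nonZeroDivisors_iff_left.1 hnz c (by rwa [mul_comm])]; exact zero_mem _)
  refine exists_root _ hπ0 fun q j c hq hjc hqc => ?_
  by_cases hj : j = 0
  · simp [hj]
  haveI hQ : (Ideal.span {q}).IsPrime := (Ideal.span_singleton_prime hq.ne_zero).2 hq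
  let P : Ideal S := (Ideal.span {q}).comap (algebraMap S A)
  have hπP : π ∈ P := Ideal.mem_span_singleton.2 (hjc ▸ (dvd_pow_self q hj).mul_right c)
  have hPn : P ≤ n :=
    (Ideal.comap_mono (le_maximalIdeal hQ.ne_top)).trans (IsLocalization.AtPrime.comap_maximalIdeal A n).le
  have hPA : P.map (algebraMap S A) = Ideal.span {q} := IsLocalization.map_comap n.primeCompl A _
  have hmin : P ∈ (Ideal.span {π}).minimalPrimes := by
    refine ⟨⟨inferInstance, (Ideal.span_singleton_le_iff_mem _).2 hπP⟩, ?_⟩
    rintro P' ⟨hP', hπP'⟩ hle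
    haveI := hP'
    have hdis : Disjoint (n.primeCompl : Set S) (P' : Set S) :=
      Set.disjoint_left.2 fun x hx hx' => hx (hPn (hle hx'))
    haveI hQ' : (P'.map (algebraMap S A)).IsPrime :=
      IsLocalization.isPrime_of_isPrime_disjoint n.primeCompl _ P' inferInstance hdis
    have hle' : P'.map (algebraMap S A) ≤ Ideal.span {q} := (Ideal.map_mono hle).trans hPA.le
    have hne : P'.map (algebraMap S A) ≠ ⊥ := fun h0 => hπ0 (by
      simpa [h0] using Ideal.mem_map_of_mem (algebraMap S A) (hπP' (Ideal.mem_span_singleton_self π)))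
    obtain ⟨x, hx, hxp⟩ := Ideal.IsPrime.exists_mem_prime_of_ne_bot hQ' hne
    have hxq : Associated q x :=
      hq.irreducible.associated_of_dvd hxp.irreducible (Ideal.mem_span_singleton.1 (hle' hx))
    intro y hy
    have h1 : algebraMap S A y ∈ P'.map (algebraMap S A) := by
      obtain ⟨z, hz⟩ := Ideal.mem_span_singleton.1 (hy : algebraMap S A y ∈ Ideal.span {q})
      rw [hz]
      obtain ⟨v, hv⟩ := hxq.symm
      rw [← hv, mul_assoc]
      exact Ideal.mul_mem_right _ _ hx
    exact (IsLocalization.comap_map_of_isPrime_disjoint n.primeCompl A inferInstance hdis).le h1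
  refine hG j ⟨P, inferInstance, hmin, Nat.pos_of_ne_zero hj, ?_⟩
  let AP := Localization.AtPrime P
  let loc : A →+* AP := IsLocalization.lift (M := n.primeCompl) (g := algebraMap S AP)
    fun y => IsLocalization.map_units AP (⟨y, fun h => y.2 (hPn h)⟩ : P.primeCompl)
  have hlocS : ∀ x : S, loc (algebraMap S A x) = algebraMap S AP x := fun x => IsLocalization.lift_eq _ x
  have hmaxP : maximalIdeal AP = Ideal.span {loc q} := by
    rw [← Localization.AtPrime.map_eq_maximalIdeal, ← Set.image_singleton, ← Ideal.map_span]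
    refine Eq.trans ?_ (congrArg (Ideal.map loc) hPA)
    rw [Ideal.map_map]
    congr 1
    exact RingHom.ext fun x => (hlocS x).symm
  have hcu : IsUnit (loc c) := by
    obtain ⟨x, y, rfl⟩ := IsLocalization.exists_mk'_eq n.primeCompl c
    have hxP : x ∉ P := fun hx => hqc (Ideal.mem_span_singleton.1 (by
      rw [IsLocalization.mk'_eq_mul_mk'_one]
      exact Ideal.mul_mem_right _ _ (Ideal.mem_comap.1 hx)))
    rw [IsLocalization.mk'_eq_mul_mk'_one, map_mul, hlocS]
    refine (IsLocalization.map_units AP (⟨x, hxP⟩ : P.primeCompl)).mul ?_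
    exact (IsUnit.of_mul_eq_one (algebraMap S A (y : S)) (by rw [IsLocalization.mk'_spec, map_one])).map loc
  rw [hmaxP, Ideal.span_singleton_pow, ← hlocS, hjc, map_mul, map_pow, Ideal.span_singleton_mul_right_unit hcu]

/-- `a ^ h ∣ f ^ h` gives `a ∣ f` on a ring with integrally closed local domains. -/
theorem mem_span_of_pow_mem (hreg : ∀ (n : Ideal S) [n.IsMaximal], IsRegularLocalRing (Localization.AtPrime n))
    {h : ℕ} (hh : h ≠ 0) {a f : S} (hf : f ^ h ∈ Ideal.span {a ^ h}) : f ∈ Ideal.span {a} := by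
  refine Ideal.mem_of_localization_maximal fun n hn => ?_
  haveI := hreg n
  haveI : IsDomain (Localization.AtPrime n) := RegLoc.isDomain _
  haveI : UniqueFactorizationMonoid (Localization.AtPrime n) := UFDLib.ufd_of_isRegularLocalRing _
  rw [Ideal.map_span, Set.image_singleton, Ideal.mem_span_singleton]
  rw [Ideal.mem_span_singleton] at hf
  refine (IsIntegrallyClosed.pow_dvd_pow_iff hh).1 ?_
  simpa only [map_pow] using map_dvd (algebraMap S (Localization.AtPrime n)) hf

/-- Closure under addition of `{f | f ^ h ∈ (π)}`. -/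
theorem add_pow_mem (hreg : ∀ (n : Ideal S) [n.IsMaximal], IsRegularLocalRing (Localization.AtPrime n))
    {π : S} (hnz : π ∈ nonZeroDivisors S) {h : ℕ} (hh : h ≠ 0) (hG : ∀ j, IsMult π j → h ∣ j) {f g : S}
    (hf : f ^ h ∈ Ideal.span {π}) (hg : g ^ h ∈ Ideal.span {π}) : (f + g) ^ h ∈ Ideal.span {π} := by
  refine Ideal.mem_of_localization_maximal fun n hn => ?_
  haveI := hreg n
  haveI : IsDomain (Localization.AtPrime n) := RegLoc.isDomain _
  haveI : UniqueFactorizationMonoid (Localization.AtPrime n) := UFDLib.ufd_of_isRegularLocalRing _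
  obtain ⟨t, u, hu, htu⟩ := exists_root_atPrime n hnz hG
  rw [Ideal.map_span, Set.image_singleton, Ideal.mem_span_singleton, htu, hu.mul_left_dvd, map_pow, map_add]
  have key : ∀ z : S, z ^ h ∈ Ideal.span {π} → t ∣ algebraMap S (Localization.AtPrime n) z := fun z hz => by
    refine (IsIntegrallyClosed.pow_dvd_pow_iff hh).1 ?_
    have h1 := map_dvd (algebraMap S (Localization.AtPrime n)) (Ideal.mem_span_singleton.1 hz)
    rwa [map_pow, htu, hu.mul_left_dvd] at h1
  exact pow_dvd_pow_of_dvd (dvd_add (key f hf) (key g hg)) h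

end Groth.Agent.IndexLift
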