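import Groth.Agent.IndexLift.Select
import Groth.Agent.IndexLift.Root
import Groth.Agent.MultFibre.Main
import Groth.Agent.QsNorm.Point
import Groth.Agent.CycDim.DegBase
import Groth.Prelude.Def_W4c5delpairindexchiIndex

/-!
The index of the generic fibre of a regular proper model over a strictly henselian discrete valuation
ring divides its Euler characteristic.
-/

set_option autoImplicit false
set_option backward.isDefEq.respectTransparency false
set_option backward.isDefEq.respectTransparency.types false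
set_option linter.style.haveILetI false

universe u

open CategoryTheory CategoryTheory.Limits AlgebraicGeometry TopologicalSpace Opposite

noncomputable section

namespace Groth.Agent.IndexLift

variable {R : Type u} [CommRing R] {X : Scheme.{u}} (p : X ⟶ Spec (CommRingCat.of R))

/-- The structure map of an affine open. -/
def str (U : X.Opens) : R →+* Γ(X, U) :=
  ((Scheme.ΓSpecIso (CommRingCat.of R)).inv ≫ p.appLE ⊤ U le_top).hom

theorem str_res {U V : X.Opens} (h : V ≤ U) (r : R) :
    X.presheaf.map (homOfLE h).op (str p U r) = str p V r := by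
  show ((Scheme.ΓSpecIso (CommRingCat.of R)).inv ≫ p.appLE ⊤ U le_top ≫ X.presheaf.map (homOfLE h).op).hom r = _
  rw [Scheme.Hom.appLE_map]
  rfl

theorem fromSpec_comp {U : X.Opens} (hU : IsAffineOpen U) :
    hU.fromSpec ≫ p = Spec.map (CommRingCat.ofHom (str p U)) := by
  rw [← IsAffineOpen.SpecMap_appLE_fromSpec p (isAffineOpen_top _) hU le_top, IsAffineOpen.fromSpec_top,
    Scheme.isoSpec_Spec_inv, ← Spec.map_comp]
  rfl

theorem finiteType_str [LocallyOfFiniteType p] (U : X.affineOpens) : (str p U.1).FiniteType := by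
  refine RingHom.FiniteType.comp (p.finiteType_appLE (isAffineOpen_top _) U.2 le_top) ?_
  exact RingHom.FiniteType.of_surjective _
    (Scheme.ΓSpecIso (CommRingCat.of R)).commRingCatIsoToRingEquiv.symm.surjective

theorem isRegular_atPrime (hreg : Models.IsRegularScheme X) (U : X.affineOpens) (n : Ideal Γ(X, U.1)) [hn : n.IsPrime] :
    IsRegularLocalRing (Localization.AtPrime n) := by
  let y : PrimeSpectrum Γ(X, U.1) := ⟨n, hn⟩
  have hy : U.2.fromSpec y ∈ U.1 := by
    rw [← SetLike.mem_coe, ← U.2.range_fromSpec]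
    exact ⟨y, rfl⟩
  letI := TopCat.Presheaf.algebra_section_stalk X.presheaf (⟨U.2.fromSpec y, hy⟩ : U.1)
  haveI : IsLocalization.AtPrime (X.presheaf.stalk (U.2.fromSpec y)) n := U.2.isLocalization_stalk' y hy
  haveI := hreg (U.2.fromSpec y)
  exact IsRegularLocalRing.of_ringEquiv
    (IsLocalization.algEquiv n.primeCompl (X.presheaf.stalk (U.2.fromSpec y)) (Localization.AtPrime n)).toRingEquiv

theorem str_mem_nonZeroDivisors [IsDomain R] [Flat p] (U : X.affineOpens) {r : R} (hr : r ≠ 0) :
    str p U.1 r ∈ nonZeroDivisors Γ(X, U.1) := by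
  have hfl : (str p U.1).Flat :=
    RingHom.Flat.comp (RingHom.Flat.of_bijective
      (Scheme.ΓSpecIso (CommRingCat.of R)).commRingCatIsoToRingEquiv.symm.bijective)
      (p.flat_appLE (isAffineOpen_top _) U.2 le_top)
  letI := (str p U.1).toAlgebra
  haveI : Module.Flat R Γ(X, U.1) := hfl
  rw [mem_nonZeroDivisors_iff_right]
  intro z hz
  have := Module.Flat.isSMulRegular_of_nonZeroDivisors (M := Γ(X, U.1)) (mem_nonZeroDivisors_of_ne_zero hr)
  refine this (show r • z = r • 0 from ?_)
  rw [smul_zero, Algebra.smul_def, mul_comm]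
  exact hz

variable [IsDomain R] [IsDiscreteValuationRing R]

theorem specialFibre_ideal {ϖ : R} (hϖ : Irreducible ϖ) (U : X.affineOpens) :
    (Models.specialFibreIdeal R (Over.mk p)).ideal U = Ideal.span {str p U.1 ϖ} := by
  rw [Castel.OpenModel.specialFibreIdeal_eq, Castel.fibreIdeal_ideal, hϖ.maximalIdeal_eq, Ideal.map_span,
    Set.image_singleton]
  rfl

/-- A root of the special fibre, when all multiplicities are divisible by `h`. -/
theorem exists_root_ideal [Flat p] (hreg : Models.IsRegularScheme X) {ϖ : R} (hϖ : Irreducible ϖ) {h : ℕ}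
    (hh : h ≠ 0) (hG : ∀ (U : X.affineOpens) (j : ℕ), IsMult (str p U.1 ϖ) j → h ∣ j) :
    ∃ J : X.IdealSheafData, BlowUp.IsEffCartierIdeal J ∧ J ^ h = Models.specialFibreIdeal R (Over.mk p) := by
  let π : ∀ U : X.Opens, Γ(X, U) := fun U => str p U ϖ
  have hnz : ∀ U : X.affineOpens, π U.1 ∈ nonZeroDivisors Γ(X, U.1) := fun U => str_mem_nonZeroDivisors p U hϖ.ne_zero
  have hregU : ∀ (U : X.affineOpens) (n : Ideal Γ(X, U.1)) [n.IsMaximal],
      IsRegularLocalRing (Localization.AtPrime n) := fun U n _ => isRegular_atPrime hreg U n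
  let Jid : ∀ U : X.affineOpens, Ideal Γ(X, U.1) := fun U =>
    { carrier := {f | f ^ h ∈ Ideal.span {π U.1}}
      zero_mem' := by simp [zero_pow hh]
      add_mem' := fun hf hg => add_pow_mem (hregU U) (hnz U) hh (hG U) hf hg
      smul_mem' := fun c f hf => by
        show (c * f) ^ h ∈ Ideal.span {π U.1}
        rw [mul_pow]; exact Ideal.mul_mem_left _ _ hf }
  let J : X.IdealSheafData :=
    { ideal := Jid
      map_ideal_basicOpen := fun U f => by
        let φ := (X.presheaf.map (homOfLE (X.basicOpen_le f)).op).hom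
        have hπ : φ (π U.1) = π (X.basicOpen f) := str_res p _ ϖ
        letI := φ.toAlgebra
        haveI : IsLocalization.Away f Γ(X, X.basicOpen f) := U.2.isLocalization_basicOpen f
        refine le_antisymm (Ideal.map_le_iff_le_comap.2 fun z hz => ?_) fun z hz => ?_
        · show φ z ^ h ∈ Ideal.span {π (X.basicOpen f)}
          rw [← map_pow, ← hπ, ← Set.image_singleton, ← Ideal.map_span]
          exact Ideal.mem_map_of_mem φ hz
        · change z ^ h ∈ Ideal.span {π (X.basicOpen f)} at hz
          obtain ⟨b, y, rfl⟩ := IsLocalization.exists_mk'_eq (Submonoid.powers f) (z : Γ(X, X.basicOpen f))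
          have h1 : φ b ^ h ∈ (Ideal.span {π U.1}).map φ := by
            rw [Ideal.map_span, Set.image_singleton, hπ,
              show φ b = IsLocalization.mk' Γ(X, X.basicOpen f) b y * φ (y : Γ(X, U.1)) from
                (IsLocalization.mk'_spec _ b y).symm, mul_pow]
            exact Ideal.mul_mem_right _ _ hz
          rw [← map_pow] at h1
          obtain ⟨w, hw, hwb⟩ := (IsLocalization.algebraMap_mem_map_algebraMap_iff (Submonoid.powers f)
            Γ(X, X.basicOpen f) _ _).1 h1
          have h2 : (w * b) ^ h ∈ Ideal.span {π U.1} := by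
            rw [mul_pow]
            obtain ⟨l, hl⟩ := Nat.exists_eq_succ_of_ne_zero hh
            rw [show w ^ h = w ^ l * w from by rw [hl, pow_succ], mul_assoc]
            exact Ideal.mul_mem_left _ _ hwb
          have h3 : IsLocalization.mk' Γ(X, X.basicOpen f) b y =
              φ (w * b) * IsLocalization.mk' Γ(X, X.basicOpen f) 1 ((⟨w, hw⟩ : Submonoid.powers f) * y) := by
            rw [show φ (w * b) = algebraMap Γ(X, U.1) Γ(X, X.basicOpen f) (w * b) from rfl,
              ← IsLocalization.mk'_eq_mul_mk'_one, IsLocalization.mk'_eq_iff_eq]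
            congr 1
            show (w * (y : Γ(X, U.1))) * b = (y : Γ(X, U.1)) * (w * b)
            ring
          rw [h3]
          exact Ideal.mul_mem_right _ _ (Ideal.mem_map_of_mem φ h2) }
  have hchart : ∀ x : X, ∃ V : X.affineOpens, x ∈ V.1 ∧ ∃ (a w : Γ(X, V.1)), IsUnit w ∧ π V.1 = w * a ^ h := by
    intro x
    obtain ⟨U, hU, hxU, -⟩ := exists_isAffineOpen_mem_and_subset (x := x) (U := ⊤) trivial
    let n := (hU.primeIdealOf ⟨x, hxU⟩).asIdeal
    haveI := isRegular_atPrime hreg ⟨U, hU⟩ n
    obtain ⟨t, u, hu, htu⟩ := exists_root_atPrime n (hnz ⟨U, hU⟩) (hG ⟨U, hU⟩)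
    obtain ⟨a, s, rfl⟩ := IsLocalization.exists_mk'_eq n.primeCompl t
    obtain ⟨e, s', rfl⟩ := IsLocalization.exists_mk'_eq n.primeCompl u
    have he : e ∉ n := (IsLocalization.AtPrime.isUnit_mk'_iff (Localization.AtPrime n) n e s').1 hu
    rw [← IsLocalization.mk'_pow, ← IsLocalization.mk'_mul, eq_comm, IsLocalization.mk'_eq_iff_eq_mul, eq_comm,
      ← map_mul, IsLocalization.eq_iff_exists n.primeCompl] at htu
    obtain ⟨c, hc⟩ := htu
    have hg : (c : Γ(X, U)) * ((s' * s ^ h : n.primeCompl) : Γ(X, U)) * e ∉ n := fun hmem =>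
      (Ideal.IsPrime.mem_or_mem inferInstance hmem).elim (fun h' => (c * (s' * s ^ h)).2 h') he
    set g := (c : Γ(X, U)) * ((s' * s ^ h : n.primeCompl) : Γ(X, U)) * e with hgdef
    refine ⟨⟨X.basicOpen g, hU.basicOpen g⟩, ?_, ?_⟩
    · by_contra hx
      refine hg ?_
      rw [Scheme.mem_basicOpen _ _ _ hxU] at hx
      letI := TopCat.Presheaf.algebra_section_stalk X.presheaf (⟨x, hxU⟩ : U)
      haveI : IsLocalization.AtPrime (X.presheaf.stalk x) n := hU.isLocalization_stalk ⟨x, hxU⟩
      by_contra hgn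
      exact hx (IsLocalization.map_units (X.presheaf.stalk x) (⟨g, hgn⟩ : n.primeCompl))
    · let φ := (X.presheaf.map (homOfLE (X.basicOpen_le g)).op).hom
      letI := φ.toAlgebra
      haveI : IsLocalization.Away g Γ(X, X.basicOpen g) := hU.isLocalization_basicOpen g
      have hgu : IsUnit (φ g) :=
        IsLocalization.map_units Γ(X, X.basicOpen g) (⟨g, Submonoid.mem_powers g⟩ : Submonoid.powers g)
      replace hgu : IsUnit (φ (c : Γ(X, U)) * φ ((s' * s ^ h : n.primeCompl) : Γ(X, U)) * φ e) := by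
        rw [← map_mul, ← map_mul]; exact hgu
      obtain ⟨hcs, heu⟩ := IsUnit.mul_iff.1 hgu
      obtain ⟨hcu, hsu⟩ := IsUnit.mul_iff.1 hcs
      obtain ⟨v, hv⟩ := hsu.exists_left_inv
      refine ⟨φ a, φ e * v, heu.mul (IsUnit.of_mul_eq_one _ hv), ?_⟩
      have h4 := congrArg φ hc
      simp only [map_mul] at h4
      have h5 := hcu.mul_left_cancel h4
      refine (str_res p (X.basicOpen_le g) ϖ).symm.trans ?_
      show φ (π U) = _
      simp only [map_pow] at h5
      linear_combination (v : Γ(X, X.basicOpen g)) * h5 - (φ (π U)) * hv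
  have hspan : ∀ (V : X.affineOpens) (a w : Γ(X, V.1)), IsUnit w → π V.1 = w * a ^ h →
      Jid V = Ideal.span {a} := by
    intro V a w hw hπ
    refine le_antisymm (fun f hf => mem_span_of_pow_mem (hregU V) hh ?_) ?_
    · have hf' : f ^ h ∈ Ideal.span {π V.1} := hf
      rwa [hπ, Ideal.span_singleton_mul_left_unit hw] at hf'
    · rw [Ideal.span_singleton_le_iff_mem]
      show a ^ h ∈ Ideal.span {π V.1}
      rw [hπ, Ideal.span_singleton_mul_left_unit hw]
      exact Ideal.mem_span_singleton_self _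
  refine ⟨J, fun x => ?_, ?_⟩
  · obtain ⟨V, hx, a, w, hw, hπ⟩ := hchart x
    refine ⟨V, hx, a, ?_, hspan V a w hw hπ⟩
    have h1 : a ^ h ∈ nonZeroDivisors Γ(X, V.1) := by
      have h2 := hnz V
      rw [hπ, mul_mem_nonZeroDivisors] at h2
      exact h2.2
    obtain ⟨l, hl⟩ := Nat.exists_eq_succ_of_ne_zero hh
    rw [hl, pow_succ, mul_mem_nonZeroDivisors] at h1
    exact h1.2
  · choose V hxV a w hw hπ using hchart
    refine Scheme.IdealSheafData.ext_of_iSup_eq_top V (eq_top_iff.2 fun x _ => Opens.mem_iSup.2 ⟨x, hxV x⟩) fun x => ?_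
    rw [Scheme.IdealSheafData.ideal_pow, Pi.pow_apply]
    show Jid (V x) ^ h = _
    rw [hspan (V x) (a x) (w x) (hw x) (hπ x), Ideal.span_singleton_pow, specialFibre_ideal p hϖ,
      show str p (V x).1 ϖ = w x * a x ^ h from hπ x, Ideal.span_singleton_mul_left_unit (hw x)]

/-- Multiplicities lie in the index subgroup of the generic fibre. -/
theorem mult_mem_indexSubgroup [HenselianLocalRing R] (hk : IsAlgClosed (IsLocalRing.ResidueField R))
    [IsProper p] [Flat p] (hreg : Models.IsRegularScheme X) {C : Scheme.{u}}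
    (f : C ⟶ Spec (CommRingCat.of (FractionRing R))) [IsProper f] {g : C ⟶ X}
    (hg : IsPullback g f p (Spec.map (CommRingCat.ofHom (algebraMap R (FractionRing R)))))
    {ϖ : R} (hϖ : Irreducible ϖ) (U : X.affineOpens) {j : ℕ} (hj : IsMult (str p U.1 ϖ) j) :
    (j : ℤ) ∈ Curv2.indexSubgroup f := by
  obtain ⟨P, hP, hmin, hj0, hmult⟩ := hj
  letI := (str p U.1).toAlgebra
  haveI : Algebra.FiniteType R Γ(X, U.1) := finiteType_str p U
  haveI : IsNoetherianRing Γ(X, U.1) := Algebra.FiniteType.isNoetherianRing R _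
  haveI := hk
  haveI := hP
  obtain ⟨L, _, _, _, _, hrank, ⟨φ⟩⟩ := exists_point_of_component (S := Γ(X, U.1)) hϖ
    (fun n _ => isRegular_atPrime hreg U n) (str_mem_nonZeroDivisors p U hϖ.ne_zero) P hmin hj0
    (by rw [IsScalarTower.algebraMap_apply R Γ(X, U.1) (Localization.AtPrime P)]; exact hmult)
  haveI : Module.Finite (FractionRing R) L := Module.finite_of_finrank_pos (hrank ▸ hj0)
  let s := Spec.map (CommRingCat.ofHom (algebraMap (FractionRing R) L))
  have hw : (Spec.map (CommRingCat.ofHom φ.toRingHom) ≫ U.2.fromSpec) ≫ p =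
      s ≫ Spec.map (CommRingCat.ofHom (algebraMap R (FractionRing R))) := by
    rw [Category.assoc, fromSpec_comp, ← Spec.map_comp, ← Spec.map_comp]
    congr 1
    refine CommRingCat.hom_ext (RingHom.ext fun r => ?_)
    exact (φ.commutes r).trans (IsScalarTower.algebraMap_apply R (FractionRing R) L r)
  let ℓ : Spec (CommRingCat.of L) ⟶ C := hg.lift _ s hw
  have hℓ : ℓ ≫ f = s := hg.lift_snd _ _ _
  let z : Spec (CommRingCat.of L) := IsLocalRing.closedPoint L
  haveI : IsFinite s := (IsFinite.SpecMap_iff _).2 (RingHom.finite_algebraMap.2 inferInstance)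
  haveI : IsProper ℓ := by
    haveI : IsProper (ℓ ≫ f) := by rw [hℓ]; infer_instance
    exact IsProper.of_comp ℓ f
  have hclosed : IsClosed ({ℓ z} : Set C) := by
    have h := ℓ.isClosedMap _ (isClosed_univ (X := Spec (CommRingCat.of L)))
    haveI : Subsingleton (Spec (CommRingCat.of L)) := inferInstanceAs (Subsingleton (PrimeSpectrum L))
    rwa [Set.image_univ, show Set.range ℓ = {ℓ z} from Set.eq_singleton_iff_unique_mem.2
      ⟨⟨z, rfl⟩, by rintro _ ⟨y, rfl⟩; rw [Subsingleton.elim y z]⟩] at h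
  have hdeg : j = f.residueDegree (ℓ z) * ℓ.residueDegree z := by
    rw [← CycDeg.residueDegree_comp, hℓ, ← hrank]
    exact (QsNorm.residueDegree_field (FractionRing R) L z).symm
  rw [hdeg, Nat.cast_mul, mul_comm, ← smul_eq_mul]
  have hmem : (f.residueDegree (ℓ z) : ℤ) ∈ Curv2.indexSubgroup f :=
    AddSubgroup.subset_closure (Set.mem_image_of_mem (fun x : C => (f.residueDegree x : ℤ))
      (show ℓ z ∈ {x : C | IsClosed ({x} : Set C)} from hclosed))
  exact AddSubgroup.zsmul_mem _ hmem _

/-- The index divides the Euler characteristic. -/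
theorem euler_mem_indexSubgroup [HenselianLocalRing R] (hk : IsAlgClosed (IsLocalRing.ResidueField R))
    [IsProper p] [Flat p] (hreg : Models.IsRegularScheme X) (C : Scheme.{u})
    [C.Over (Spec (CommRingCat.of (FractionRing R)))] [IsProper (C ↘ Spec (CommRingCat.of (FractionRing R)))]
    (hX : Models.IsModel R X p C (C ↘ Spec (CommRingCat.of (FractionRing R)))) :
    Curv2.euler (FractionRing R) C (Coh.structureModule C) ∈
      Curv2.indexSubgroup (C ↘ Spec (CommRingCat.of (FractionRing R))) := by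
  obtain ⟨ϖ, hϖ⟩ := IsDiscreteValuationRing.exists_irreducible R
  obtain ⟨-, -, -, g, hg⟩ := id hX
  set H := Curv2.indexSubgroup (C ↘ Spec (CommRingCat.of (FractionRing R))) with hH
  obtain ⟨d, hd⟩ := Int.subgroup_cyclic H
  have hdiv : ∀ (U : X.affineOpens) (j : ℕ), IsMult (str p U.1 ϖ) j → d.natAbs ∣ j := fun U j hj => by
    have := mult_mem_indexSubgroup p hk hreg _ hg hϖ U hj
    rw [← hH, hd, AddSubgroup.mem_closure_singleton] at this
    obtain ⟨n, hn⟩ := this
    exact Int.natCast_dvd_natCast.1 (Int.natAbs_dvd.2 ⟨n, by rw [← hn, smul_eq_mul, mul_comm]⟩)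
  suffices hdvd : (d.natAbs : ℤ) ∣ Curv2.euler (FractionRing R) C (Coh.structureModule C) by
    obtain ⟨n, hn⟩ := Int.natAbs_dvd.1 hdvd
    rw [hd, AddSubgroup.mem_closure_singleton]
    exact ⟨n, by rw [hn, smul_eq_mul, mul_comm]⟩
  by_cases h0 : d.natAbs = 0
  · -- the special fibre is empty
    have htop : Models.specialFibreIdeal R (Over.mk p) = ⊤ := by
      refine Scheme.IdealSheafData.ext (funext fun U => ?_)
      rw [specialFibre_ideal p hϖ, Scheme.IdealSheafData.ideal_top, Pi.top_apply, Ideal.span_singleton_eq_top]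
      by_contra hnu
      obtain ⟨n, hn, hmem⟩ := Ideal.exists_le_maximal _ (fun e => hnu (Ideal.span_singleton_eq_top.1 e))
      haveI := isRegular_atPrime hreg U n
      obtain ⟨t, u, hu, htu⟩ := exists_root_atPrime n (str_mem_nonZeroDivisors p U hϖ.ne_zero)
        (fun j hj => hdiv U j hj)
      rw [h0, pow_zero, mul_one] at htu
      rw [← htu, IsLocalization.AtPrime.isUnit_to_map_iff (Localization.AtPrime n) n] at hu
      exact hu (hmem (Ideal.mem_span_singleton_self _))
    rw [h0, Nat.cast_zero, zero_dvd_iff]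
    by_contra hne
    have hdvd := MultFibre.dvd_euler_generic R X p C hX
      (Curv2.euler (FractionRing R) C (Coh.structureModule C)).natAbs ⊤ BlowUpLib.cartier_top
      (by rw [htop, ← Scheme.IdealSheafData.one_eq_top, one_pow])
    have hle := Nat.le_of_dvd (Int.natAbs_pos.2 hne) (Int.natCast_dvd.1 hdvd)
    omega
  · obtain ⟨J, hJ, hJh⟩ := exists_root_ideal p hreg hϖ h0 hdiv
    obtain ⟨l, hl⟩ := Nat.exists_eq_succ_of_ne_zero h0
    rw [hl] at hJh ⊢
    exact MultFibre.dvd_euler_generic R X p C hX l J hJ hJh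

end Groth.Agent.IndexLift
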