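import Groth.Agent.Hensel.LocalPiece
import Groth.Agent.RegLoc.Order
import Mathlib

/-!
A point of degree `m` through a general point of a component of multiplicity `m`, over a henselian
discrete valuation ring with algebraically closed residue field.
-/

set_option autoImplicit false
set_option backward.isDefEq.respectTransparency false
set_option backward.isDefEq.respectTransparency.types false
set_option linter.style.haveILetI false

universe u

open IsLocalRing

noncomputable section

namespace Groth.Agent.IndexLift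

variable {R : Type u} [CommRing R] [IsDomain R] [IsDiscreteValuationRing R] [HenselianLocalRing R]
  {S : Type u} [CommRing S] [Algebra R S] [Algebra.FiniteType R S]

omit [IsDomain R] [IsDiscreteValuationRing R] [HenselianLocalRing R] in
/-- Residue fields at closed points over the closed point are those of the base. -/
theorem exists_sub_mem [IsLocalRing R] [IsAlgClosed (ResidueField R)] (n : Ideal S) [n.IsMaximal]
    [n.LiesOver (maximalIdeal R)] (x : S) : ∃ r : R, x - algebraMap R S r ∈ n := by
  letI := Ideal.Quotient.field n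
  letI : Algebra (ResidueField R) (S ⧸ n) := inferInstanceAs (Algebra (R ⧸ maximalIdeal R) (S ⧸ n))
  haveI : IsScalarTower R (ResidueField R) (S ⧸ n) := inferInstanceAs (IsScalarTower R (R ⧸ maximalIdeal R) (S ⧸ n))
  haveI : Algebra.FiniteType (ResidueField R) (S ⧸ n) :=
    Algebra.FiniteType.of_restrictScalars_finiteType R _ _
  haveI : Module.Finite (ResidueField R) (S ⧸ n) :=
    finite_of_finite_type_of_isJacobsonRing (ResidueField R) (S ⧸ n)
  obtain ⟨c, hc⟩ := (IsAlgClosed.algebraMap_bijective_of_isIntegral (k := ResidueField R) (K := S ⧸ n)).2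
    (Ideal.Quotient.mk n x)
  obtain ⟨r, rfl⟩ := IsLocalRing.residue_surjective c
  exact ⟨r, (Ideal.Quotient.eq).1 hc.symm⟩

omit [IsDomain R] [IsDiscreteValuationRing R] [HenselianLocalRing R] in
/-- Modulo `t ^ i`, everything is a combination of the first `m` powers of `t`. -/
theorem exists_lincomb {B : Type u} [CommRing B] [IsLocalRing B] [Algebra R B] {t : B}
    (ht : maximalIdeal B = Ideal.span {t}) (hres : ∀ b : B, ∃ r : R, b - algebraMap R B r ∈ maximalIdeal B)
    (m : ℕ) : ∀ i, i ≤ m → ∀ b : B, ∃ r : Fin m → R,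
      b - Fintype.linearCombination R (fun j : Fin m => t ^ (j : ℕ)) r ∈ Ideal.span {t ^ i} := by
  intro i
  induction i with
  | zero => exact fun _ b => ⟨0, by simp [Ideal.span_singleton_one]⟩
  | succ i ih =>
    intro hi b
    obtain ⟨r, hr⟩ := ih (Nat.le_of_succ_le hi) b
    obtain ⟨c, hc⟩ := Ideal.mem_span_singleton.1 hr
    obtain ⟨a, ha⟩ := hres c
    rw [ht] at ha
    obtain ⟨c', hc'⟩ := Ideal.mem_span_singleton.1 ha
    refine ⟨r + Pi.single (⟨i, hi⟩ : Fin m) a, Ideal.mem_span_singleton.2 ⟨c', ?_⟩⟩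
    rw [map_add, ← sub_sub, hc, Fintype.linearCombination_apply_single, Algebra.smul_def]
    linear_combination (t ^ i) * hc'

omit [HenselianLocalRing R] in
/-- The first `m` powers of a uniformiser form a basis when `ϖ = u · t ^ m`. -/
theorem finrank_eq_of_uniformizer (B : Type u) [CommRing B] [IsDomain B] [IsDiscreteValuationRing B] [Algebra R B]
    [Module.Finite R B] {ϖ : R} (hϖ : Irreducible ϖ) {t : B} (ht : maximalIdeal B = Ideal.span {t})
    {w : B} (hw : IsUnit w) {m : ℕ} (hm : 0 < m) (hπ : algebraMap R B ϖ = w * t ^ m)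
    (hres : ∀ b : B, ∃ r : R, b - algebraMap R B r ∈ maximalIdeal B) :
    Module.finrank R B = m := by
  have ht0 : t ≠ 0 := fun h => IsDiscreteValuationRing.not_a_field B (by rw [ht, h]; simp)
  have hm𝔪 : maximalIdeal R = Ideal.span {ϖ} := hϖ.maximalIdeal_eq
  let f : (Fin m → R) →ₗ[R] B := Fintype.linearCombination R fun i : Fin m => t ^ (i : ℕ)
  have hf : ∀ r : Fin m → R, f r = ∑ i, algebraMap R B (r i) * t ^ (i : ℕ) := fun r => by
    simp only [f, Fintype.linearCombination_apply, Algebra.smul_def]
  have hstep : ∀ b : B, ∃ r : Fin m → R, b - f r ∈ Ideal.span {t ^ m} := exists_lincomb ht hres m m le_rfl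
  have hsurj : Function.Surjective f := by
    rw [← LinearMap.range_eq_top]
    refine top_le_iff.1 (Submodule.le_of_le_smul_of_le_jacobson_bot (I := maximalIdeal R)
      Module.Finite.fg_top (le_of_eq (IsLocalRing.jacobson_eq_maximalIdeal ⊥ bot_ne_top).symm) ?_)
    intro b _
    obtain ⟨r, hr⟩ := hstep b
    obtain ⟨c, hc⟩ := Ideal.mem_span_singleton.1 hr
    refine Submodule.mem_sup.2 ⟨f r, ⟨r, rfl⟩, b - f r, ?_, by ring⟩
    obtain ⟨w', hw'⟩ := hw.exists_left_inv
    rw [show b - f r = ϖ • (w' * c) by
      rw [Algebra.smul_def, hπ, hc]; linear_combination (-(t ^ m * c)) * hw']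
    exact Submodule.smul_mem_smul (hm𝔪 ▸ Ideal.mem_span_singleton_self ϖ) trivial
  have hdiv : ∀ r : Fin m → R, f r = 0 → ∀ i, ϖ ∣ r i := by
    intro r hr
    suffices H : ∀ j (hj : j < m), ϖ ∣ r ⟨j, hj⟩ from fun i => H i.1 i.2
    intro j
    induction j using Nat.strong_induction_on with
    | _ j ih =>
      intro hj
      have hrest : t ^ (j + 1) ∣ ∑ i ∈ Finset.univ.erase (⟨j, hj⟩ : Fin m), algebraMap R B (r i) * t ^ (i : ℕ) := by
        refine Finset.dvd_sum fun i hi => ?_
        rcases lt_or_gt_of_ne (fun h : (i : ℕ) = j => (Finset.mem_erase.1 hi).1 (Fin.ext h)) with h | h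
        · obtain ⟨q, hq⟩ := ih i h i.2
          rw [show (⟨(i : ℕ), i.2⟩ : Fin m) = i from rfl] at hq
          rw [hq, map_mul, hπ]
          exact Dvd.dvd.mul_right (Dvd.dvd.mul_right (Dvd.dvd.mul_left (pow_dvd_pow t hj) w) _) _
        · exact Dvd.dvd.mul_left (pow_dvd_pow t h) _
      obtain ⟨q, hq⟩ := hrest
      have hsum := hf r
      rw [hr, ← Finset.add_sum_erase _ _ (Finset.mem_univ (⟨j, hj⟩ : Fin m)), hq] at hsum
      have h0 : t ^ j * (algebraMap R B (r ⟨j, hj⟩) + t * q) = 0 := by linear_combination -hsum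
      have h1 := (mul_eq_zero.1 h0).resolve_left (pow_ne_zero j ht0)
      have h2 : algebraMap R B (r ⟨j, hj⟩) ∈ maximalIdeal B := by
        rw [ht, eq_neg_of_add_eq_zero_left h1]
        exact Ideal.mem_span_singleton.2 ⟨-q, by ring⟩
      by_contra hnd
      refine h2 ((IsLocalRing.notMem_maximalIdeal.1 fun h3 => hnd ?_).map (algebraMap R B))
      rwa [hm𝔪, Ideal.mem_span_singleton] at h3
  have hinj : Function.Injective f := by
    rw [← LinearMap.ker_eq_bot, LinearMap.ker_eq_bot']
    intro r hr
    have hϖB : algebraMap R B ϖ ≠ 0 := hπ ▸ mul_ne_zero hw.ne_zero (pow_ne_zero m ht0)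
    have H : ∀ N (r : Fin m → R), f r = 0 → ∀ i, ϖ ^ N ∣ r i := by
      intro N
      induction N with
      | zero => exact fun r _ i => by simp
      | succ N ih =>
        intro r hr i
        choose q hq using hdiv r hr
        have hq0 : f q = 0 := by
          have : r = ϖ • q := funext hq
          rw [this, map_smul, Algebra.smul_def] at hr
          exact (mul_eq_zero.1 hr).resolve_left hϖB
        rw [hq i, pow_succ']
        exact mul_dvd_mul_left ϖ (ih q hq0 i)
    funext i
    refine eq_zero_of_forall_pow_dvd (a := r i) hϖ fun N => H N r hr i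
  exact ((LinearEquiv.ofBijective f ⟨hinj, hsurj⟩).finrank_eq).symm.trans (Module.finrank_fin_fun R)
where
  eq_zero_of_forall_pow_dvd {a : R} (hϖ : Irreducible ϖ) (h : ∀ N : ℕ, ϖ ^ N ∣ a) : a = 0 := by
    by_contra ha
    obtain ⟨N, v, rfl⟩ := IsDiscreteValuationRing.eq_unit_mul_pow_irreducible ha hϖ
    have := h (N + 1)
    rw [pow_succ, mul_comm (v : R), mul_dvd_mul_iff_left (pow_ne_zero N hϖ.ne_zero)] at this
    exact hϖ.not_isUnit (isUnit_of_dvd_unit this v.isUnit)

/-- The point of degree `m`. -/
theorem exists_point [IsAlgClosed (ResidueField R)] (n : Ideal S) [n.IsMaximal] [n.LiesOver (maximalIdeal R)]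
    [IsNoetherianRing S] {ϖ : R} (hϖ : Irreducible ϖ) {p u : Localization.AtPrime n} (hu : IsUnit u) {m : ℕ}
    (hm : 0 < m) (hπ : algebraMap R (Localization.AtPrime n) ϖ = u * p ^ m) (s : Finset S)
    (hgen : maximalIdeal (Localization.AtPrime n) =
      Ideal.span {p} ⊔ (Ideal.span (s : Set S)).map (algebraMap S (Localization.AtPrime n)))
    (hdim : ((s.card + 1 : ℕ) : WithBot ℕ∞) ≤ ringKrullDim (Localization.AtPrime n)) :
    ∃ (L : Type u) (_ : Field L) (_ : Algebra R L) (_ : Algebra (FractionRing R) L)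
      (_ : IsScalarTower R (FractionRing R) L),
      Module.finrank (FractionRing R) L = m ∧ Nonempty (S →ₐ[R] L) := by
  classical
  let A := Localization.AtPrime n
  let I := Ideal.span (s : Set S)
  have hsn : I ≤ n := by
    rw [← IsLocalization.AtPrime.comap_maximalIdeal A n, ← Ideal.map_le_iff_le_comap, hgen]
    exact le_sup_right
  let n' := n.map (Ideal.Quotient.mk I)
  haveI : n'.IsMaximal := Ideal.IsMaximal.map_of_surjective_of_ker_le Ideal.Quotient.mk_surjective
    (by rwa [Ideal.mk_ker])
  have hn' : n = n'.comap (Ideal.Quotient.mk I) := by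
    rw [Ideal.comap_map_of_surjective _ Ideal.Quotient.mk_surjective, ← RingHom.ker_eq_comap_bot, Ideal.mk_ker,
      sup_eq_left.2 hsn]
  haveI : n'.LiesOver (maximalIdeal R) := ⟨by
    rw [Ideal.under, show algebraMap R (S ⧸ I) = (Ideal.Quotient.mk I).comp (algebraMap R S) from rfl,
      ← Ideal.comap_comap, ← hn']
    exact Ideal.over_def n (maximalIdeal R)⟩
  let B := Localization.AtPrime n'
  let φ : A →ₐ[R] B := Localization.localAlgHom _ _ (Ideal.Quotient.mkₐ R I) hn'
  have hφ : Function.Surjective φ :=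
    (RingHom.surjectiveOnStalks_of_surjective Ideal.Quotient.mk_surjective).localRingHom_surjective _ _ hn'
  haveI : IsLocalHom φ.toRingHom := .of_surjective _ hφ
  let t := φ p
  have hmaxB : maximalIdeal B = Ideal.span {t} := by
    rw [← IsLocalRing.map_maximalIdeal_of_surjective φ.toRingHom hφ, hgen, Ideal.map_sup, Ideal.map_span,
      Set.image_singleton, sup_eq_left.2]
    · rfl
    refine le_of_eq_of_le ?_ bot_le
    rw [Ideal.map_map, Ideal.map_eq_bot_iff_le_ker]
    intro x hx
    show φ (algebraMap S A x) = 0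
    rw [show φ (algebraMap S A x) = algebraMap (S ⧸ I) B (Ideal.Quotient.mk I x) from
      Localization.localRingHom_to_map _ _ _ hn' x, Ideal.Quotient.eq_zero_iff_mem.2 hx, map_zero]
  have hdimB : (1 : WithBot ℕ∞) ≤ ringKrullDim B := by
    let J : Ideal A := I.map (algebraMap S A)
    have hJ : J ≤ maximalIdeal A := hgen ▸ le_sup_right
    let g : S ⧸ I →+* A ⧸ J := Ideal.Quotient.lift I ((Ideal.Quotient.mk J).comp (algebraMap S A))
      fun x hx => Ideal.Quotient.eq_zero_iff_mem.2 (Ideal.mem_map_of_mem _ hx)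
    have hg : ∀ y : n'.primeCompl, IsUnit (g y) := by
      rintro ⟨y, hy⟩
      obtain ⟨x, rfl⟩ := Ideal.Quotient.mk_surjective y
      exact (IsLocalization.map_units A (⟨x, fun hx => hy (Ideal.mem_map_of_mem _ hx)⟩ : n.primeCompl)).map
        (Ideal.Quotient.mk J)
    let ψ : B →+* A ⧸ J := IsLocalization.lift hg
    have hψ : Function.Surjective ψ := by
      intro z
      obtain ⟨a, rfl⟩ := Ideal.Quotient.mk_surjective z
      obtain ⟨x, y, rfl⟩ := IsLocalization.exists_mk'_eq n.primeCompl a
      refine ⟨IsLocalization.mk' B (Ideal.Quotient.mk I x)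
        (⟨Ideal.Quotient.mk I (y : S), fun h => y.2 (hn'.symm.le h)⟩ : n'.primeCompl), ?_⟩
      rw [IsLocalization.lift_mk'_spec]
      show Ideal.Quotient.mk J (algebraMap S A x) =
        Ideal.Quotient.mk J (algebraMap S A (y : S)) * Ideal.Quotient.mk J (IsLocalization.mk' A x y)
      rw [← map_mul, mul_comm, IsLocalization.mk'_spec]
    have h1 := ringKrullDim_le_ringKrullDim_quotient_add_card (s.image (algebraMap S A)) (by
      rw [IsLocalRing.ringJacobson_eq_maximalIdeal]
      intro a ha
      obtain ⟨x, hx, rfl⟩ := Finset.mem_image.1 (Finset.mem_coe.1 ha)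
      exact hJ (Ideal.mem_map_of_mem _ (Ideal.subset_span hx)))
    rw [Finset.coe_image, ← Ideal.map_span] at h1
    have h2 := (hdim.trans h1).trans (add_le_add (ringKrullDim_le_of_surjective ψ hψ)
      (Nat.cast_le.2 (Finset.card_image_le (f := algebraMap S A) (s := s))))
    rw [Nat.cast_add, Nat.cast_one, add_comm] at h2
    generalize ringKrullDim B = d at h2 ⊢
    generalize s.card = c at h2
    induction d using WithBot.recBotCoe with
    | bot => simp at h2
    | coe d =>
      rw [show ((c : ℕ) : WithBot ℕ∞) = ((c : ℕ∞) : WithBot ℕ∞) from rfl] at h2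
      rw [show (1 : WithBot ℕ∞) = ((1 : ℕ∞) : WithBot ℕ∞) from rfl, ← WithBot.coe_add, ← WithBot.coe_add,
        WithBot.coe_le_coe] at h2
      exact WithBot.coe_le_coe.2 ((ENat.add_le_add_iff_right (ENat.coe_ne_top c)).1 h2)
  haveI : IsNoetherianRing B := IsLocalization.isNoetherianRing n'.primeCompl _ inferInstance
  haveI : IsRegularLocalRing B := IsRegularLocalRing.of_spanFinrank_maximalIdeal_le B (le_trans (by
    rw [hmaxB]
    exact_mod_cast (Submodule.spanFinrank_span_le_ncard_of_finite (Set.finite_singleton t)).trans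
      (Set.ncard_singleton t).le) hdimB)
  haveI : IsDomain B := RegLoc.isDomain B
  have ht0 : t ≠ 0 := fun h => by
    have hf : IsField B := IsLocalRing.isField_iff_maximalIdeal_eq.2 (by rw [hmaxB, h]; simp)
    rw [ringKrullDim_eq_zero_of_isField hf] at hdimB
    exact absurd hdimB (by decide)
  haveI : IsDiscreteValuationRing B := by
    have hnf : ¬ IsField B := fun hf => ht0 (by
      have := (IsLocalRing.isField_iff_maximalIdeal_eq.1 hf)
      rw [hmaxB, Ideal.span_singleton_eq_bot] at this
      exact this)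
    have hp : (maximalIdeal B).IsPrincipal := ⟨t, hmaxB⟩
    exact ((IsDiscreteValuationRing.TFAE B hnf).out 0 4).2 hp
  have hπB : algebraMap R B ϖ = φ u * t ^ m := by
    rw [← φ.commutes, hπ, map_mul, map_pow]
  have hres : ∀ b : B, ∃ r : R, b - algebraMap R B r ∈ maximalIdeal B := by
    intro b
    obtain ⟨a, rfl⟩ := hφ b
    obtain ⟨x, y, rfl⟩ := IsLocalization.exists_mk'_eq n.primeCompl a
    obtain ⟨r, hr⟩ := exists_sub_mem (R := R) n x
    obtain ⟨r', hr'⟩ := exists_sub_mem (R := R) n (y : S)
    have hr'u : IsUnit r' := IsLocalRing.notMem_maximalIdeal.1 fun h => y.2 (by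
      have : algebraMap R S r' ∈ n := by rwa [Ideal.LiesOver.over (P := n) (p := maximalIdeal R)] at h
      simpa using add_mem hr' this)
    obtain ⟨v, hv⟩ := hr'u.exists_left_inv
    refine ⟨r * v, ?_⟩
    rw [← φ.commutes, ← map_sub]
    have hle : (maximalIdeal A).map φ.toRingHom ≤ maximalIdeal B :=
      (IsLocalRing.map_maximalIdeal_of_surjective φ.toRingHom hφ).le
    refine hle (Ideal.mem_map_of_mem _ ?_)
    refine ((Ideal.mul_unit_mem_iff_mem _ (IsLocalization.map_units A y)).1 ?_)
    rw [sub_mul, IsLocalization.mk'_spec, IsScalarTower.algebraMap_apply R S A, ← map_mul, ← map_sub]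
    refine (IsLocalization.AtPrime.to_map_mem_maximal_iff A n _).2 ?_
    have : x - algebraMap R S (r * v) * (y : S) =
        (x - algebraMap R S r) - algebraMap R S (r * v) * ((y : S) - algebraMap R S r') := by
      rw [mul_sub, ← map_mul, show r * v * r' = r by rw [mul_assoc, hv, mul_one]]; ring
    rw [this]
    exact sub_mem hr (Ideal.mul_mem_left _ _ hr')
  haveI : Algebra.WeaklyQuasiFiniteAt R n' := by
    rw [Algebra.weaklyQuasiFiniteAt_iff, ← Ideal.over_def n' (maximalIdeal R), hϖ.maximalIdeal_eq,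
      Ideal.map_span, Set.image_singleton, hπB, Ideal.span_singleton_mul_left_unit (hu.map φ)]
    haveI : Module.Finite R (B ⧸ Ideal.span {t ^ m}) :=
      Module.Finite.of_surjective ((Ideal.Quotient.mkₐ R (Ideal.span {t ^ m})).toLinearMap.comp
        (Fintype.linearCombination R fun j : Fin m => t ^ (j : ℕ))) fun z => by
          obtain ⟨b, rfl⟩ := Ideal.Quotient.mk_surjective z
          obtain ⟨r, hr⟩ := exists_lincomb hmaxB hres m m le_rfl b
          exact ⟨r, ((Ideal.Quotient.eq).2 hr).symm⟩
    infer_instance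
  haveI : Algebra.QuasiFiniteAt R n' := Algebra.QuasiFiniteAt.of_weaklyQuasiFiniteAt n'
  haveI : Module.Finite R B := Hensel.finite_atPrime R (S ⧸ I) n'
  have hrank := finrank_eq_of_uniformizer B hϖ hmaxB (hu.map φ) hm hπB hres
  haveI : FaithfulSMul R B := by
    refine (faithfulSMul_iff_algebraMap_injective R B).2 ((injective_iff_map_eq_zero _).2 fun a ha => ?_)
    by_contra ha0
    obtain ⟨N, v, rfl⟩ := IsDiscreteValuationRing.eq_unit_mul_pow_irreducible ha0 hϖ
    rw [map_mul, map_pow, hπB] at ha
    exact mul_ne_zero (v.isUnit.map (algebraMap R B)).ne_zero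
      (pow_ne_zero N (mul_ne_zero (hu.map φ).ne_zero (pow_ne_zero m ht0))) ha
  letI : Algebra (FractionRing R) (FractionRing B) := FractionRing.liftAlgebra R (FractionRing B)
  refine ⟨FractionRing B, inferInstance, inferInstance, inferInstance, inferInstance, ?_,
    ⟨((IsScalarTower.toAlgHom R B (FractionRing B)).comp (φ.comp (IsScalarTower.toAlgHom R S A)))⟩⟩
  rw [← hrank]
  exact IsFractionRing.finrank_eq R (FractionRing R) B (FractionRing B)

end Groth.Agent.IndexLift
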