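import Groth.Agent.IndexLift.Point
import Groth.Agent.HopfRedSq.Basic
import Groth.Agent.GeomProp.SmoothReg
import Groth.Agent.UFDLib.Regular

/-!
A point of degree the multiplicity of a component of the special fibre.
-/

set_option autoImplicit false
set_option backward.isDefEq.respectTransparency false
set_option backward.isDefEq.respectTransparency.types false
set_option linter.style.haveILetI false

universe u

open IsLocalRing

noncomputable section

namespace Groth.Agent.IndexLift

/-- Some closed point of an affine variety over a perfect field avoids a given non-zero function and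
is regular. -/
theorem exists_regular_maximal (k : Type u) [Field k] [IsAlgClosed k] (T : Type u) [CommRing T] [IsDomain T]
    [Algebra k T] [Algebra.FiniteType k T] {g : T} (hg : g ≠ 0) :
    ∃ (N : Ideal T) (_ : N.IsMaximal), g ∉ N ∧ IsRegularLocalRing (Localization.AtPrime N) := by
  obtain ⟨f, hf, hs⟩ := HopfRedSq.exists_smooth_away (k := k) (A := T)
  haveI : IsRegularRing (Localization.Away f) := GeomProp.isRegularRing_of_smooth k _
  haveI : IsJacobsonRing T := isJacobsonRing_of_finiteType (A := k)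
  obtain ⟨N, hN, hfg⟩ : ∃ N : Ideal T, N.IsMaximal ∧ f * g ∉ N := by
    by_contra! hh
    have h : f * g ∈ (⊥ : Ideal T).jacobson := Submodule.mem_sInf.2 fun N hN => hh N hN.2
    rw [isJacobsonRing_iff.1 ‹IsJacobsonRing T› ⊥ Ideal.bot_prime.isRadical] at h
    exact mul_ne_zero hf hg (by simpa using h)
  refine ⟨N, hN, fun h => hfg (Ideal.mul_mem_left _ _ h), ?_⟩
  have hdis : Disjoint (Submonoid.powers f : Set T) (N : Set T) := by
    rw [Set.disjoint_left]
    rintro _ ⟨l, rfl⟩ h
    exact hfg (Ideal.mul_mem_right _ _ (hN.isPrime.mem_of_pow_mem l h))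
  let N' := N.map (algebraMap T (Localization.Away f))
  haveI : N'.IsPrime := IsLocalization.isPrime_of_isPrime_disjoint (Submonoid.powers f) _ N hN.isPrime hdis
  have hc : N'.comap (algebraMap T (Localization.Away f)) = N :=
    IsLocalization.comap_map_of_isPrime_disjoint (Submonoid.powers f) _ hN.isPrime hdis
  haveI hr : IsRegularLocalRing (Localization.AtPrime N') := inferInstance
  have h := IsRegularLocalRing.of_ringEquiv
    (IsLocalization.localizationLocalizationAtPrimeIsoLocalization (Submonoid.powers f) N').symm.toRingEquiv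
  have key : ∀ (M : Ideal T) [M.IsPrime], M = N → IsRegularLocalRing (Localization.AtPrime M) →
      IsRegularLocalRing (Localization.AtPrime N) := by
    rintro M _ rfl h
    exact h
  exact key _ hc h

variable {R : Type u} [CommRing R] [IsDomain R] [IsDiscreteValuationRing R] [HenselianLocalRing R]
  {S : Type u} [CommRing S] [Algebra R S] [Algebra.FiniteType R S]

/-- The multiplicity of a component of the special fibre is the degree of a point. -/
theorem exists_point_of_component [IsAlgClosed (ResidueField R)] [IsNoetherianRing S] {ϖ : R} (hϖ : Irreducible ϖ)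
    (hreg : ∀ (n : Ideal S) [n.IsMaximal], IsRegularLocalRing (Localization.AtPrime n))
    (hnz : algebraMap R S ϖ ∈ nonZeroDivisors S) (P : Ideal S) [P.IsPrime]
    (hP : P ∈ (Ideal.span {algebraMap R S ϖ}).minimalPrimes) {m : ℕ} (hm : 0 < m)
    (hmult : Ideal.span {algebraMap R (Localization.AtPrime P) ϖ} = maximalIdeal (Localization.AtPrime P) ^ m) :
    ∃ (L : Type u) (_ : Field L) (_ : Algebra R L) (_ : Algebra (FractionRing R) L)
      (_ : IsScalarTower R (FractionRing R) L),
      Module.finrank (FractionRing R) L = m ∧ Nonempty (S →ₐ[R] L) := by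
  classical
  have hϖP : algebraMap R S ϖ ∈ P := hP.1.2 (Ideal.mem_span_singleton_self _)
  haveI : P.LiesOver (maximalIdeal R) := ⟨by
    refine (IsLocalRing.eq_maximalIdeal ?_).symm
    have hp : (P.under R).IsPrime := inferInstance
    refine hp.isMaximal fun h => hϖ.ne_zero ?_
    have : ϖ ∈ P.under R := hϖP
    rwa [h, Ideal.mem_bot] at this⟩
  letI : Algebra (ResidueField R) (S ⧸ P) := inferInstanceAs (Algebra (R ⧸ maximalIdeal R) (S ⧸ P))
  haveI : IsScalarTower R (ResidueField R) (S ⧸ P) := inferInstanceAs (IsScalarTower R (R ⧸ maximalIdeal R) (S ⧸ P))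
  haveI : Algebra.FiniteType (ResidueField R) (S ⧸ P) := Algebra.FiniteType.of_restrictScalars_finiteType R _ _
  -- avoid the other components
  obtain ⟨g, hgP, hg⟩ : ∃ g : S, g ∉ P ∧ ∀ Q ∈ (Ideal.span {algebraMap R S ϖ}).minimalPrimes, Q ≠ P → g ∈ Q := by
    have hfin := (Ideal.span {algebraMap R S ϖ}).finite_minimalPrimes_of_isNoetherianRing
    have hch : ∀ Q ∈ (Ideal.span {algebraMap R S ϖ}).minimalPrimes \ {P}, ∃ x ∈ Q, x ∉ P := fun Q hQ => by
      by_contra! hh
      exact hQ.2 (le_antisymm hh (hP.2 hQ.1.1 hh))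
    choose x hxQ hxP using hch
    refine ⟨∏ Q ∈ (hfin.sdiff (t := {P})).toFinset.attach, x Q.1 ((hfin.sdiff).mem_toFinset.1 Q.2), fun h => ?_,
      fun Q hQ hne => ?_⟩
    · obtain ⟨Q, -, hQ⟩ := (Ideal.IsPrime.prod_mem_iff (p := P)).1 h
      exact hxP _ _ hQ
    · exact Ideal.mem_of_dvd _ (Finset.dvd_prod_of_mem (fun Q : (hfin.sdiff (t := {P})).toFinset =>
        x Q.1 ((hfin.sdiff).mem_toFinset.1 Q.2))
        (Finset.mem_attach _ ⟨Q, (hfin.sdiff).mem_toFinset.2 ⟨hQ, hne⟩⟩)) (hxQ Q ⟨hQ, hne⟩)
  obtain ⟨N, hN, hgN, hNreg⟩ := exists_regular_maximal (ResidueField R) (S ⧸ P)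
    (fun h => hgP (Ideal.Quotient.eq_zero_iff_mem.1 h) : Ideal.Quotient.mk P g ≠ 0)
  let n := N.comap (Ideal.Quotient.mk P)
  haveI : n.IsMaximal := Ideal.comap_isMaximal_of_surjective _ Ideal.Quotient.mk_surjective
  have hPn : P ≤ n := fun x hx => by
    show Ideal.Quotient.mk P x ∈ N
    rw [Ideal.Quotient.eq_zero_iff_mem.2 hx]; exact zero_mem _
  haveI : n.LiesOver (maximalIdeal R) := ⟨by
    refine le_antisymm ?_ (le_maximalIdeal (Ideal.IsPrime.ne_top inferInstance))
    rw [Ideal.over_def P (maximalIdeal R)]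
    exact Ideal.comap_mono hPn⟩
  let A := Localization.AtPrime n
  haveI : IsRegularLocalRing A := hreg n
  haveI : IsDomain A := RegLoc.isDomain A
  haveI : UniqueFactorizationMonoid A := UFDLib.ufd_of_isRegularLocalRing A
  have hπ0 : algebraMap R A ϖ ≠ 0 := fun h => by
    rw [IsScalarTower.algebraMap_apply R S A, IsLocalization.map_eq_zero_iff n.primeCompl] at h
    obtain ⟨c, hc⟩ := h
    exact c.2 (show (c : S) ∈ n by rw [mem_nonZeroDivisors_iff_left.1 hnz c (by rwa [mul_comm])]; exact zero_mem _)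
  let PA := P.map (algebraMap S A)
  have hdis : Disjoint (n.primeCompl : Set S) (P : Set S) := Set.disjoint_left.2 fun x hx hx' => hx (hPn hx')
  haveI hPAp : PA.IsPrime := IsLocalization.isPrime_of_isPrime_disjoint n.primeCompl _ P inferInstance hdis
  have hPAc : PA.comap (algebraMap S A) = P :=
    IsLocalization.comap_map_of_isPrime_disjoint n.primeCompl _ inferInstance hdis
  have hkey : ∀ Q : Ideal A, Q.IsPrime → algebraMap R A ϖ ∈ Q → PA ≤ Q := by
    intro Q hQ hϖQ
    have h1 : Ideal.span {algebraMap R S ϖ} ≤ Q.comap (algebraMap S A) := by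
      rw [Ideal.span_singleton_le_iff_mem, Ideal.mem_comap, ← IsScalarTower.algebraMap_apply]
      exact hϖQ
    obtain ⟨Q', hQ', hle⟩ := Ideal.exists_minimalPrimes_le h1
    have hQn : Q.comap (algebraMap S A) ≤ n :=
      (Ideal.comap_mono (le_maximalIdeal hQ.ne_top)).trans (IsLocalization.AtPrime.comap_maximalIdeal A n).le
    have : Q' = P := by
      by_contra hne
      exact hgN (hQn (hle (hg Q' hQ' hne)))
    subst this
    exact (Ideal.map_mono hle).trans Ideal.map_comap_le
  have hϖPA : algebraMap R A ϖ ∈ PA := by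
    rw [IsScalarTower.algebraMap_apply R S A]; exact Ideal.mem_map_of_mem _ hϖP
  obtain ⟨q, hqPA, hq⟩ : ∃ q, q ∈ PA ∧ Prime q := by
    obtain ⟨fs, hfs, hass⟩ := UniqueFactorizationMonoid.exists_prime_factors _ hπ0
    have hmem : fs.prod ∈ PA := by
      obtain ⟨v, hv⟩ := hass
      rw [← hv] at hϖPA
      exact (hPAp.mem_or_mem hϖPA).resolve_right fun h => hPAp.ne_top (Ideal.eq_top_of_isUnit_mem _ h v.isUnit)
    obtain ⟨q, hq, hqm⟩ := (Ideal.IsPrime.multiset_prod_mem_iff_exists_mem hPAp fs).1 hmem
    exact ⟨q, hqm, hfs q hq⟩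
  have huniq : ∀ q' : A, Prime q' → q' ∣ algebraMap R A ϖ → q' ∣ q := fun q' hq' hd => by
    have := hkey (Ideal.span {q'}) ((Ideal.span_singleton_prime hq'.ne_zero).2 hq') (Ideal.mem_span_singleton.2 hd) hqPA
    exact Ideal.mem_span_singleton.1 this
  have hqdvd : q ∣ algebraMap R A ϖ := by
    obtain ⟨q', hq', hd⟩ := WfDvdMonoid.exists_irreducible_factor (fun h => hPAp.ne_top (Ideal.eq_top_of_isUnit_mem _ hϖPA h)) hπ0
    exact ((hq'.prime.associated_of_dvd hq (huniq q' hq'.prime hd)).symm.dvd).trans hd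
  have hPA : PA = Ideal.span {q} := le_antisymm
    (hkey _ ((Ideal.span_singleton_prime hq.ne_zero).2 hq) (Ideal.mem_span_singleton.2 hqdvd))
    ((Ideal.span_singleton_le_iff_mem _).2 hqPA)
  obtain ⟨j, c, hqc, hjc⟩ := WfDvdMonoid.max_power_factor hπ0 hq.irreducible
  have hc : IsUnit c := by
    by_contra hcu
    obtain ⟨q', hq', hd⟩ := WfDvdMonoid.exists_irreducible_factor hcu (fun h => hπ0 (by rw [hjc, h, mul_zero]))
    exact hqc ((hq'.prime.associated_of_dvd hq (huniq q' hq'.prime (hjc ▸ hd.mul_left _))).symm.dvd.trans hd)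
  -- the exponent
  let AP := Localization.AtPrime P
  let loc : A →+* AP := IsLocalization.lift (M := n.primeCompl) (g := algebraMap S AP)
    fun y => IsLocalization.map_units AP (⟨y, fun h => y.2 (hPn h)⟩ : P.primeCompl)
  have hlocS : ∀ x : S, loc (algebraMap S A x) = algebraMap S AP x := fun x => IsLocalization.lift_eq _ x
  have hmaxP : maximalIdeal AP = Ideal.span {loc q} := by
    rw [← Localization.AtPrime.map_eq_maximalIdeal, ← Set.image_singleton, ← Ideal.map_span, ← hPA,
      Ideal.map_map]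
    congr 1
    exact RingHom.ext fun x => (hlocS x).symm
  have hj : j = m := by
    have hϖ' : algebraMap R AP ϖ = loc q ^ j * loc c := by
      rw [IsScalarTower.algebraMap_apply R S AP, ← hlocS, ← IsScalarTower.algebraMap_apply R S A, hjc, map_mul,
        map_pow]
    have hq0 : ¬ loc q ^ j = 0 := fun h => by
      rw [h, zero_mul, IsScalarTower.algebraMap_apply R S AP, IsLocalization.map_eq_zero_iff P.primeCompl] at hϖ'
      obtain ⟨c', hc'⟩ := hϖ'
      exact c'.2 (show (c' : S) ∈ P by rw [mem_nonZeroDivisors_iff_left.1 hnz c' (by rwa [mul_comm])]; exact zero_mem _)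
    rw [hmaxP, Ideal.span_singleton_pow, hϖ', Ideal.span_singleton_mul_right_unit (hc.map loc)] at hmult
    have hq1 : ¬ IsUnit (loc q) := fun h => by
      rw [← Ideal.span_singleton_eq_top, ← hmaxP] at h
      exact (maximalIdeal.isMaximal AP).ne_top h
    have key : ∀ a b : ℕ, a < b → loc q ^ b ∣ loc q ^ a → loc q ^ a = 0 := by
      rintro a b hab ⟨d, hd⟩
      obtain ⟨e, rfl⟩ := Nat.exists_eq_add_of_lt hab
      have h1 : loc q ^ a * (1 - loc q ^ (e + 1) * d) = 0 := by
        rw [mul_sub, mul_one, ← mul_assoc, ← pow_add, ← add_assoc, ← hd, sub_self]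
      have hu : IsUnit (1 - loc q ^ (e + 1) * d) := by
        refine IsLocalRing.notMem_maximalIdeal.1 fun h => (maximalIdeal.isMaximal AP).ne_top ?_
        refine Ideal.eq_top_of_isUnit_mem _ (?_ : (1 : AP) ∈ _) isUnit_one
        have h2 : loc q ^ (e + 1) * d ∈ maximalIdeal AP := by
          rw [hmaxP, Ideal.mem_span_singleton, pow_succ']
          exact (dvd_mul_right _ _).mul_right _
        simpa using add_mem h h2
      exact hu.mul_left_eq_zero.1 h1
    rcases lt_trichotomy j m with h | h | h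
    · exact absurd (key j m h (Ideal.mem_span_singleton.1 (hmult ▸ Ideal.mem_span_singleton_self _))) hq0
    · exact h
    · have h1 := key m j h (Ideal.mem_span_singleton.1 (hmult.symm ▸ Ideal.mem_span_singleton_self _))
      exact absurd (eq_zero_of_zero_dvd (h1 ▸ (pow_dvd_pow (loc q) h.le : loc q ^ m ∣ loc q ^ j))) hq0
  subst hj
  -- parameters of the component
  let T := Localization.AtPrime N
  let φ : A →+* T := Localization.localRingHom n N (Ideal.Quotient.mk P) rfl
  have hφ : Function.Surjective φ :=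
    (RingHom.surjectiveOnStalks_of_surjective Ideal.Quotient.mk_surjective).localRingHom_surjective _ _ rfl
  have hkerφ : RingHom.ker φ ≤ Ideal.span {q} := by
    intro a ha
    obtain ⟨x, y, rfl⟩ := IsLocalization.exists_mk'_eq n.primeCompl a
    rw [RingHom.mem_ker, Localization.localRingHom_mk', IsLocalization.mk'_eq_zero_iff] at ha
    obtain ⟨⟨z, hz⟩, hzx⟩ := ha
    obtain ⟨z, rfl⟩ := Ideal.Quotient.mk_surjective z
    change Ideal.Quotient.mk P z * Ideal.Quotient.mk P x = 0 at hzx
    rw [← map_mul, Ideal.Quotient.eq_zero_iff_mem] at hzx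
    have hx : x ∈ P := (Ideal.IsPrime.mem_or_mem inferInstance hzx).resolve_left fun h => hz (by
      show Ideal.Quotient.mk P z ∈ N
      rw [Ideal.Quotient.eq_zero_iff_mem.2 h]; exact zero_mem _)
    rw [← hPA, IsLocalization.mk'_eq_mul_mk'_one]
    exact Ideal.mul_mem_right _ _ (Ideal.mem_map_of_mem _ hx)
  have hφq : φ q = 0 := by
    have h : PA ≤ RingHom.ker φ := Ideal.map_le_iff_le_comap.2 fun x hx => by
      rw [Ideal.mem_comap, RingHom.mem_ker]
      show Localization.localRingHom n N (Ideal.Quotient.mk P) rfl (algebraMap S A x) = 0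
      rw [Localization.localRingHom_to_map, Ideal.Quotient.eq_zero_iff_mem.2 hx, map_zero]
    exact h hqPA
  obtain ⟨w, hw, hwspan⟩ := Submodule.FG.exists_span_finset_card_eq_spanFinrank
    (IsNoetherian.noetherian (maximalIdeal T))
  have hlift : ∀ b : T, ∃ x : S, ∃ u : T, IsUnit u ∧ b = u * φ (algebraMap S A x) := fun b => by
    obtain ⟨x, y, rfl⟩ := IsLocalization.exists_mk'_eq N.primeCompl b
    obtain ⟨x', rfl⟩ := Ideal.Quotient.mk_surjective x
    refine ⟨x', IsLocalization.mk' T (1 : S ⧸ P) y,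
      IsUnit.of_mul_eq_one (algebraMap (S ⧸ P) T (y : S ⧸ P)) (by rw [IsLocalization.mk'_spec, map_one]), ?_⟩
    rw [show φ (algebraMap S A x') = algebraMap (S ⧸ P) T (Ideal.Quotient.mk P x') from
      Localization.localRingHom_to_map _ _ _ rfl x', mul_comm, ← IsLocalization.mk'_eq_mul_mk'_one]
  choose lx lu hlu hlx using hlift
  haveI : IsLocalHom φ := .of_surjective _ hφ
  let s := w.image lx
  have hwmem : ∀ b ∈ w, b ∈ maximalIdeal T := fun b hb =>
    le_of_eq hwspan (Submodule.subset_span hb)
  have hsA : ∀ b ∈ w, algebraMap S A (lx b) ∈ maximalIdeal A := fun b hb hu => by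
    refine hwmem b hb ?_
    rw [hlx b]
    exact (hlu b).mul (hu.map φ)
  have hgen : maximalIdeal A = Ideal.span {q} ⊔ (Ideal.span (s : Set S)).map (algebraMap S A) := by
    refine le_antisymm ?_ (sup_le ((Ideal.span_singleton_le_iff_mem _).2 hq.not_unit) ?_)
    · intro a ha
      have h1 : φ a ∈ ((Ideal.span (s : Set S)).map (algebraMap S A)).map φ := by
        have h2 : φ a ∈ maximalIdeal T := fun hu => ha (isUnit_of_map_unit φ a hu)
        rw [← hwspan] at h2
        refine (Submodule.span_le.2 fun b hb => ?_ : Submodule.span T (w : Set T) ≤ _) h2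
        show b ∈ _
        rw [hlx b]
        exact Ideal.mul_mem_left _ _ (Ideal.mem_map_of_mem _ (Ideal.mem_map_of_mem _
          (Ideal.subset_span (Finset.mem_coe.2 (Finset.mem_image_of_mem lx hb)))))
      obtain ⟨a', ha', he⟩ := (Ideal.mem_map_iff_of_surjective φ hφ).1 h1
      rw [← sub_add_cancel a a']
      exact Submodule.add_mem_sup (hkerφ (by rw [RingHom.mem_ker, map_sub, he, sub_self])) ha'
    · rw [Ideal.map_span, Ideal.span_le]
      rintro _ ⟨x, hx, rfl⟩
      obtain ⟨b, hb, rfl⟩ := Finset.mem_image.1 (Finset.mem_coe.1 hx)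
      exact hsA b hb
  haveI : IsRegularLocalRing T := hNreg
  have hdim : ((s.card + 1 : ℕ) : WithBot ℕ∞) ≤ ringKrullDim A := by
    refine le_trans ?_ (ringKrullDim_succ_le_of_surjective φ hφ (mem_nonZeroDivisors_of_ne_zero hq.ne_zero) hφq)
    rw [Nat.cast_add, Nat.cast_one]
    gcongr
    rw [← (isRegularLocalRing_iff T).1 inferInstance, ← hw]
    exact_mod_cast Finset.card_image_le
  exact exists_point n hϖ hc hm (by rw [hjc, mul_comm]) s hgen hdim

end Groth.Agent.IndexLift
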